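import Cfsg.Agent.H174.Ore.TransRk
import Cfsg.Agent.H332.EB.Fi23

/-!
# The values of the irreducible characters of `Fi₂₃` at 2A, 2B, 3A (helper174, ORE)

`exists_vals` : for `χ : IrrCharacter Fi23` there are integers `n = χ 1`, `a = χ d`, `b = χ (d e)` (`d ≠ e` commuting
transpositions), `c = χ (d e)` (`d, e` not commuting) with the rank 3 relation, the positivity on the three eigenspaces of the
graph (31671; 3510, 28160; 351, -9), the integrality of the central characters and the multiplicities of `2²` and `S₃`.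
-/

set_option autoImplicit false
set_option linter.unusedSectionVars false

namespace Cfsg.Agent.H174.Ore.Fi23Rk

open Cfsg Cfsg.Agent.Characters Cfsg.Agent.Characters.Core Cfsg.Agent.Fischer.Abstract
open Cfsg.Agent.H690.Spor.RankThree Cfsg.Agent.H690.Spor.RankThree.R3
open Cfsg.Agent.H174.Ore.Rk
open Cfsg.Spor (Fi23)
open Cfsg.Agent.Fischer.Fi23Z (z0)

/-- The values at 2A, 2B, 3A. -/
structure Vals (χ : IrrCharacter Fi23) (n a b c : ℤ) : Prop where
  deg : (charDegree (χ : Fi23 → ℂ) : ℤ) = n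
  one : (χ : Fi23 → ℂ) 1 = n
  pos : 0 < n
  val_d : ∀ d : Fi23, IsConj z0 d → (χ : Fi23 → ℂ) d = a
  val_c : ∀ d e : Fi23, IsConj z0 d → IsConj z0 e → d ≠ e → d * e = e * d → (χ : Fi23 → ℂ) (d * e) = b
  val_n : ∀ d e : Fi23, IsConj z0 d → IsConj z0 e → d * e ≠ e * d → (χ : Fi23 → ℂ) (d * e) = c
  rel : n * (n + 3510 * b + 28160 * c) = 31671 * a ^ 2
  psd1 : 0 ≤ n + 351 * b - 352 * c
  psd2 : 0 ≤ n - 9 * b + 8 * c
  dvd_a : n ∣ 31671 * a
  dvd_b : n ∣ 55582605 * b
  dvd_c : n ∣ 297285120 * c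
  q1 : ∃ m : ℕ, n + 2 * a + b = 4 * m
  q2 : ∃ m : ℕ, n - 2 * a + b = 4 * m
  q3 : ∃ m : ℕ, n - b = 4 * m
  s1 : ∃ m : ℕ, n + 3 * a + 2 * c = 6 * m
  s2 : ∃ m : ℕ, n - 3 * a + 2 * c = 6 * m
  s3 : ∃ m : ℕ, n - c = 3 * m

namespace Vals

variable {χ : IrrCharacter Fi23} {n a b c : ℤ}

theorem psd0 (h : Vals χ n a b c) : 0 ≤ n + 3510 * b + 28160 * c := by
  have h1 := h.rel
  have h2 : 0 ≤ n * (n + 3510 * b + 28160 * c) := by rw [h1]; positivity
  exact nonneg_of_mul_nonneg_right h2 h.pos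

/-- Cauchy–Schwarz for `∑ d e` (`e` commuting with `d`). -/
theorem cs (h : Vals χ n a b c) : 3510 * b ^ 2 ≤ n * (n + 693 * b + 2816 * c) := by
  have h0 := h.psd0
  have h1 := h.psd1
  have h2 := h.psd2
  nlinarith [mul_nonneg h0 h1, mul_nonneg h0 h2, mul_nonneg h1 h2]

/-- Cauchy–Schwarz for `∑ e` (`e` commuting with `d`). -/
theorem cs' (h : Vals χ n a b c) : 3510 * a ^ 2 ≤ n * (n + 693 * b + 2816 * c) := by
  have h0 := h.psd0
  have h1 := h.psd1
  have h2 := h.psd2
  have h3 := h.rel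
  have h4 : 0 ≤ 31671 * (n + 693 * b + 2816 * c) - 3510 * (n + 3510 * b + 28160 * c) := by
    nlinarith
  have h5 := mul_nonneg h.pos.le h4
  nlinarith

end Vals

theorem exists_vals (χ : IrrCharacter Fi23) : ∃ n a b c : ℤ, Vals χ n a b c := by
  obtain ⟨R, -, -, hR⟩ := R08.FiTwentyThree.exists_rank3
  have h := H332.EB.FiTh.r3 R hR
  have hfin := R08.FiTwentyThree.finite_fi23
  have hfinX := H332.EB.FiTh.finite_X R hR
  have := Fintype.ofFinite (Fi23 ⧸ Fischer.Fi23Class.K)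
  classical
  obtain ⟨n, a, b, c, hv⟩ := exists_rv χ R
  have hD : ∀ d : Fi23, IsConj z0 d → ∃ x, R.t x = d := by
    intro d hd
    have : d ∈ Set.range R.t := by rw [hR]; exact hd
    exact this
  obtain ⟨p, q, hab⟩ := h.exists_params
  have hp : ∀ x y, ¬ R.Com x y → com (fun x y => ¬ R.Com x y) x y = 25000 := fun x y hxy => H332.EB.FiTh.card_a R hR hxy
  have hp' : p = 25000 := by
    have h2 := hab R.x0 R.b
    rw [sum_mul, hp _ _ R.not_com_x0_b] at h2
    unfold dia adj at h2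
    rw [if_neg R.b_ne_x0.symm, if_pos R.not_com_x0_b] at h2
    have h5 : ((25000 : ℕ) : ℂ) = (p : ℂ) := by
      rw [h2]
      ring
    exact_mod_cast h5.symm
  subst hp'
  have hq' : q = 25344 := by
    have := h.params_eq hab
    omega
  subst hq'
  have hq : ∀ x y, x ≠ y → R.Com x y → com (fun x y => ¬ R.Com x y) x y = 25344 := by
    intro x y hxy hc
    have h2 := hab x y
    rw [sum_mul] at h2
    unfold dia adj at h2
    rw [if_neg hxy, if_neg (not_not_intro hc)] at h2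
    have h5 : (com (fun x y => ¬ R.Com x y) x y : ℂ) = ((25344 : ℕ) : ℂ) := by
      rw [h2]
      push_cast
      ring
    exact_mod_cast h5
  refine ⟨n, a, b, c, hv.deg, hv.one, hv.pos, ?_, ?_, ?_, ?_, ?_, ?_, ?_, ?_, ?_, hv.q1, hv.q2, hv.q3, hv.s1, hv.s2,
    hv.s3⟩
  · intro d hd
    obtain ⟨x, rfl⟩ := hD d hd
    exact hv.val_d x
  · intro d e hd he hne hc
    obtain ⟨x, rfl⟩ := hD d hd
    obtain ⟨y, rfl⟩ := hD e he
    exact hv.val_c x y (fun h => hne (by rw [h])) hc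
  · intro d e hd he hc
    obtain ⟨x, rfl⟩ := hD d hd
    obtain ⟨y, rfl⟩ := hD e he
    exact hv.val_n x y hc
  · have h1 := hv.rel h
    norm_num at h1
    exact h1
  · have h1 := hv.psd h hp hq 72 (-9) 8 (-352) (by norm_num) (by norm_num) (by norm_num) (by norm_num) (by norm_num)
    linarith
  · have h1 := hv.psd h hp hq 137632 391 (-352) 8 (by norm_num) (by norm_num) (by norm_num) (by norm_num) (by norm_num)
    linarith
  · have h1 := hv.dvd_a h
    norm_num at h1
    exact h1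
  · have h1 := hv.dvd_b h 55582605 (by norm_num)
    norm_num at h1
    exact h1
  · have h1 := hv.dvd_c h 297285120 (by norm_num)
    norm_num at h1
    exact h1

end Cfsg.Agent.H174.Ore.Fi23Rk
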