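import Cfsg.Agent.H174.Ore.Fused
import Cfsg.Agent.H829.Pw.ThSmall
import Cfsg.Agent.H800.Sp.B
import Cfsg.Agent.H444.ThLoc
import Cfsg.Agent.H49.ThFiveDat

/-!
# ORE (S2443): the degrees of the Thompson group and T1 (helper174)

* `degN`, `degX` : the nontrivial characters of degree `± 1` mod 31 have degree `≥ 1520`, those of degree `± 15` mod 31 have
  degree `≥ 3705` (171 and 247 are excluded by the Sylow 5-subgroup);
* `t1_th` : the elements with `|C(g)| ≤ 60000` are commutators.
-/

set_option autoImplicit false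
set_option maxRecDepth 100000

namespace Cfsg.Agent.H174.Ore.Th

open Cfsg Subgroup Cfsg.Agent.H511.Ore Cfsg.Agent.H174.Ore
open Cfsg.Agent.H653.Sieve Cfsg.Agent.H651.Two Cfsg.Agent.H777.Ore

universe u

theorem exists_emb : ∃ f : Spor.Th →* Spor.BabyMonster, Function.Injective f := by
  obtain ⟨T, ⟨e⟩⟩ := H800.Sp.B.exists_th_B
  exact ⟨T.subtype.comp e.symm.toMonoidHom, T.subtype_injective.comp e.symm.injective⟩

theorem finite : Finite Spor.Th := H513.NilpTh.finite

theorem card : Nat.card Spor.Th = 90745943887872000 := H513.NilpTh.card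

theorem simple : IsSimpleGroup Spor.Th := H513.AbTh.simple

theorem nonab : ¬ IsMulCommutative Spor.Th := by
  intro h
  refine H253.TC.not_comm_of_card (K := Spor.Th) card (by norm_num) (p := 7) (by norm_num) (by norm_num) (by norm_num) ?_
  exact fun a b => h.is_comm.comm a b

theorem exists_ord {r : ℕ} (hr : r.Prime) (hd : r ∣ 90745943887872000) : ∃ x : Spor.Th, orderOf x = r := by
  have := finite
  have := Fact.mk hr
  exact exists_prime_orderOf_dvd_card' r (by rw [card]; exact hd)

/-- the data at 31, 19, 13 -/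
def c31 : CD := ⟨31, 1, 15, 2, [(0, 0), (1, 2), (15, -1), (16, 1), (30, -2)], 2, true⟩
def c19 : CD := ⟨19, 1, 18, 1, [(0, 0), (1, 1), (18, -1)], 0, false⟩
def c13 : CD := ⟨13, 3, 12, 1, [(0, 0), (1, 1), (12, -1), (2, 2), (11, -2)], 0, false⟩

def cd : List CD := [c31, c19, c13]

theorem cent_thirteen {x : Spor.Th} (hx : orderOf x = 13) : Nat.card (centralizer ({x} : Set Spor.Th)) = 39 := by
  obtain ⟨f, hf⟩ := exists_emb
  have h1 := H829.Pw.th_cent13 hf hx
  have h2 := H444.ThLoc.cn13 (R := zpowers x) (by rw [Nat.card_zpowers, hx])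
  have h3 : centralizer (zpowers x : Set Spor.Th) = centralizer ({x} : Set Spor.Th) := by
    rw [zpowers_eq_closure, centralizer_closure]
  simp only [List.mem_cons, List.not_mem_nil, or_false, Prod.mk.injEq] at h2
  rw [← h3] at h1 ⊢
  rcases h2 with ⟨h2, -⟩ | ⟨h2, -⟩ | ⟨h2, -⟩ | ⟨h2, -⟩ | ⟨h2, -⟩ | ⟨h2, -⟩
  · exact h2
  all_goals
    have h4 : Nat.card (centralizer (zpowers x : Set Spor.Th)) ≤ 39 := h1
    rw [show Nat.card (centralizer (zpowers x : Set Spor.Th)) = _ from h2] at h4
    exact absurd h4 (by norm_num)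

theorem has31 : c31.Has Spor.Th := by
  obtain ⟨f, hf⟩ := exists_emb
  obtain ⟨x, hx⟩ := exists_ord (r := 31) (by norm_num) (by norm_num)
  exact ⟨by norm_num [c31], x, hx, H829.Pw.th_cent31 hf hx⟩

theorem has19 : c19.Has Spor.Th := by
  obtain ⟨f, hf⟩ := exists_emb
  obtain ⟨x, hx⟩ := exists_ord (r := 19) (by norm_num) (by norm_num)
  exact ⟨by norm_num [c19], x, hx, (H829.Pw.th_cent19 hf hx).1⟩

theorem has13 : c13.Has Spor.Th := by
  obtain ⟨x, hx⟩ := exists_ord (r := 13) (by norm_num) (by norm_num)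
  exact ⟨by norm_num [c13], x, hx, cent_thirteen hx⟩

theorem has : ∀ d ∈ cd, d.Has Spor.Th := by
  intro d hd
  simp only [cd, List.mem_cons, List.not_mem_nil, or_false] at hd
  rcases hd with rfl | rfl | rfl
  exacts [has31, has19, has13]

def fac : List (ℕ × ℕ) := [(31, 1), (19, 1), (13, 1), (7, 2), (5, 3), (3, 10), (2, 15)]

theorem chk1 : (cd.all (CD.ok 90745943887872000)) = true := by decide +kernel

theorem chk2 : (fac.all fun pa => Nat.Prime pa.1) = true := by
  simp only [fac, List.all_cons, List.all_nil, Bool.and_true]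
  norm_num

theorem chk3 : facProd fac = 90745943887872000 := by decide +kernel

/-- **171 and 247 are not degrees.** -/
theorem noDeg : NoDeg Spor.Th [171, 247] := by
  have := finite
  have := simple
  intro χ hχ
  obtain ⟨_, x, y, z, a, D⟩ := H49.ThFive.exists_dat
  have hne : (χ : Spor.Th → ℂ) ≠ 1 := by
    intro h
    rw [h] at hχ
    have : charDegree (1 : Spor.Th → ℂ) = 1 := by
      unfold charDegree
      simp
    rw [this] at hχ
    simp at hχ
  obtain ⟨b, hb1, hb2, hb⟩ := fused_val (S := H49.ThFive.PP x y z) (by rw [D.card_P]; norm_num) (z := z)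
    (fun u hu hu1 => isConj_iff.2 (D.conj_z hu hu1)) hne
  rw [D.card_P] at hb hb2
  have hc : Nat.card (centralizer ({z} : Set Spor.Th)) ≤ 3000 := D.card_C.le
  simp only [List.mem_cons, List.not_mem_nil, or_false] at hχ
  rcases hχ with hχ | hχ
  · -- 171
    rw [hχ] at hb hb2
    have hb3 : b = 1 := by omega
    rw [hb3] at hb
    obtain ⟨f, hf⟩ := exists_emb
    obtain ⟨w, hw⟩ := exists_ord (r := 31) (by norm_num) (by norm_num)
    obtain ⟨NE, X, hX⟩ := H65.Ore.exists_dat nonab (p := 31) (by norm_num) card hw (H829.Pw.th_cent31 hf hw) 15 2 143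
      (by decide +kernel)
    have h1 := mem_X_of_deg hX (by norm_num) hw (χ := χ) (by rw [hχ]; decide) (by rw [hχ]; decide)
      (by rw [hχ]; decide)
    have h2 := exc_sq_le hX h1 (z := z) (by rw [D.oz]; decide) hb hc
    norm_num at h2
  · -- 247
    rw [hχ] at hb hb2
    have hb3 : b = 1 := by omega
    rw [hb3] at hb
    have h2 := sq_le hb hc
    norm_num at h2

theorem degN : DegOn Spor.Th (pNE 31) 1520 := by
  have := finite
  have := simple
  exact degOn_of_check nonab 90745943887872000 card fac chk2 chk3 cd chk1 has minDeg_zero noDeg (by decide +kernel)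

theorem degX : DegOn Spor.Th (pX 31 15) 3705 := by
  have := finite
  have := simple
  exact degOn_of_check nonab 90745943887872000 card fac chk2 chk3 cd chk1 has minDeg_zero noDeg (by decide +kernel)

theorem t1_th' : T1 Spor.Th 60000 := by
  have := finite
  have := simple
  exact T1.of_weight nonab 90745943887872000 card c31 has31 rfl (by decide +kernel) degN degX (by norm_num) (by norm_num)
    (by decide +kernel)

/-- **T1 for `Th`.** -/
theorem t1_th {S : Type u} [Group S] (h : Cfsg.Spor.IsoTh S) : T1 S 60000 := by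
  obtain ⟨e⟩ := h
  exact t1_th'.congr e

end Cfsg.Agent.H174.Ore.Th
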