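import Cfsg.Agent.H65.Ore.Split
import Cfsg.Agent.H511.Ore.WRow
import Cfsg.Agent.S0189
import Cfsg.Agent.Characters.GaloisBasic
import Cfsg.Agent.Characters.SchurBound
import Cfsg.Agent.SmallSimple.InvolColumn
import Cfsg.Agent.Blocks.BlockKer

/-!
# ORE (S2443): excluding degrees by fused subgroups (helper174)

* `fused_val` : `S ≤ G` with all nontrivial elements conjugate to `z`, `χ ≠ 1` irreducible, `G` simple: `χ z = χ 1 - |S| a`,
  `1 ≤ a`, `(|S| - 1) a ≤ χ 1`;
* `sq_le`, `two_sq_le` : `(χ z)² ≤ |C(z)|`, `t (χ z)² ≤ |C(z)|` for the `t` exceptional characters of a self-centralizing prime;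
* `mem_of_deg`, `mem_X_of_deg` : the characters of degree prime to `p` belong to the block.
-/

set_option autoImplicit false

namespace Cfsg.Agent.H174.Ore

open Cfsg Subgroup Cfsg.Agent.H65.Ore
open scoped ComplexConjugate

universe u

variable {G : Type u} [Group G] [Finite G]

omit [Finite G] in
/-- values at conjugate elements -/
theorem val_conj (χ : IrrCharacter G) {u z : G} (h : IsConj u z) : (χ : G → ℂ) u = (χ : G → ℂ) z := by
  obtain ⟨g, rfl⟩ := isConj_iff.1 h
  exact (Characters.Core.isIrr_isClassFunction χ.2 u g).symm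

/-- the sum over a fused subgroup -/
theorem fused_sum {S : Subgroup G} {z : G} (hS : ∀ u ∈ S, u ≠ 1 → IsConj u z) (χ : IrrCharacter G) :
    ∃ n : ℕ, (charDegree (χ : G → ℂ) : ℂ) + ((Nat.card S : ℂ) - 1) * (χ : G → ℂ) z = Nat.card S * n := by
  classical
  have := Fintype.ofFinite S
  have hc := Characters.Core.isCharacter_comp S.subtype (Characters.Core.isIrr_isCharacter χ.2)
  obtain ⟨n, hn⟩ := Characters.Core.classInner_isNat hc (Characters.Core.isCharacter_one (G := S))
  refine ⟨n, ?_⟩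
  rw [Characters.Core.classInner_def] at hn
  have hpos : 1 ≤ Nat.card S := Nat.card_pos
  have h1 : ∑ g : S, ((χ : G → ℂ) ∘ S.subtype) g * conj ((1 : S → ℂ) g) =
      (charDegree (χ : G → ℂ) : ℂ) + ((Nat.card S : ℂ) - 1) * (χ : G → ℂ) z := by
    rw [← Finset.add_sum_erase _ _ (Finset.mem_univ (1 : S))]
    congr 1
    · simp only [Function.comp_apply, map_one, Pi.one_apply, mul_one]
      exact cast_deg χ
    · have h2 : ∀ g ∈ Finset.univ.erase (1 : S),
          ((χ : G → ℂ) ∘ S.subtype) g * conj ((1 : S → ℂ) g) = (χ : G → ℂ) z := by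
        intro g hg
        simp only [Function.comp_apply, Pi.one_apply, map_one, mul_one]
        exact val_conj χ (hS g g.2 fun h => Finset.ne_of_mem_erase hg (Subtype.ext h))
      rw [Finset.sum_congr rfl h2, Finset.sum_const, Finset.card_erase_of_mem (Finset.mem_univ _),
        Finset.card_univ, ← Nat.card_eq_fintype_card, nsmul_eq_mul, Nat.cast_sub hpos]
      push_cast
      rfl
  rw [h1] at hn
  have hne : (Nat.card S : ℂ) ≠ 0 := by exact_mod_cast (Nat.card_pos (α := S)).ne'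
  field_simp at hn
  linear_combination hn

/-- In a nonabelian simple group `χ a ≠ χ 1` for `χ ≠ 1`, `a ≠ 1`. -/
theorem apply_ne_deg [IsSimpleGroup G] {a : G} (ha : a ≠ 1) {χ : IrrCharacter G}
    (hχ : (χ : G → ℂ) ≠ 1) : (χ : G → ℂ) a ≠ (χ : G → ℂ) 1 := by
  intro h
  obtain ⟨K, hK, hmem⟩ := Blocks.BlockKer.exists_kernel χ.2
  have h1 : a ∈ K := (hmem a).2 h
  rcases hK.eq_bot_or_eq_top with h2 | h2
  · rw [h2, Subgroup.mem_bot] at h1
    exact ha h1
  · apply hχ
    have h3 : ∀ g, (χ : G → ℂ) g = (χ : G → ℂ) 1 := fun g => (hmem g).1 (h2 ▸ Subgroup.mem_top g)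
    have hfin : Finite (IrrCharacter G) := Characters.Core.finite_irr
    let _ : Fintype G := Fintype.ofFinite G
    by_contra hne
    have h4 := Characters.Core.classInner_irr_ne χ.2 Characters.Core.isIrr_one hne
    have h5 : classInner (χ : G → ℂ) (1 : G → ℂ) = (χ : G → ℂ) 1 := by
      unfold classInner
      rw [Finset.sum_congr rfl fun g _ => by
        rw [h3 g, Pi.one_apply, map_one, mul_one]]
      rw [Finset.sum_const, Finset.card_univ, nsmul_eq_mul, ← Nat.card_eq_fintype_card]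
      have : (Nat.card G : ℂ) ≠ 0 := Characters.Core.card_ne_zero_complex
      field_simp
    rw [h5] at h4
    rw [cast_deg] at h4
    exact charDegree_ne_zero χ.2 (by exact_mod_cast h4)

/-- **The value at a fused subgroup.** -/
theorem fused_val [IsSimpleGroup G] {S : Subgroup G} (hS1 : 1 < Nat.card S) {z : G}
    (hS : ∀ u ∈ S, u ≠ 1 → IsConj u z) {χ : IrrCharacter G} (hχ : (χ : G → ℂ) ≠ 1) :
    ∃ a : ℕ, 1 ≤ a ∧ (Nat.card S - 1) * a ≤ charDegree (χ : G → ℂ) ∧
      (χ : G → ℂ) z = (((charDegree (χ : G → ℂ) : ℤ) - Nat.card S * a : ℤ) : ℂ) := by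
  obtain ⟨n, hn⟩ := fused_sum hS χ
  set s := Nat.card S with hs
  set d := charDegree (χ : G → ℂ) with hd
  have hs0 : ((s : ℂ) - 1) ≠ 0 := by
    intro h
    have h1 : (s : ℂ) = 1 := by linear_combination h
    have h2 : s = 1 := by exact_mod_cast h1
    omega
  have hz1 : z ≠ 1 := by
    obtain ⟨u, hu⟩ : ∃ u : S, u ≠ 1 := by
      have : Nontrivial S := Finite.one_lt_card_iff_nontrivial.1 hS1
      exact exists_ne 1
    rintro rfl
    have h1 := hS u u.2 fun h => hu (Subtype.ext h)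
    rw [isConj_one_left] at h1
    exact hu (Subtype.ext h1)
  obtain ⟨m, hm⟩ : ∃ m : ℤ, (χ : G → ℂ) z = m := by
    refine Characters.GaloisBasic.exists_int_of_rat (Characters.Core.isIrr_isCharacter χ.2) z
      ⟨((s : ℚ) * n - d) / ((s : ℚ) - 1), ?_⟩
    push_cast
    rw [eq_div_iff hs0]
    linear_combination hn
  have h1 : (d : ℤ) + ((s : ℤ) - 1) * m = s * n := by
    rw [hm] at hn
    exact_mod_cast hn
  have hle : m ≤ d := by
    have h2 := Characters.SchurBound.norm_le (Characters.Core.isIrr_isCharacter χ.2) (n := d) (cast_deg χ) z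
    rw [hm, Complex.norm_intCast] at h2
    have h3 : |m| ≤ (d : ℤ) := by exact_mod_cast h2
    exact (le_abs_self m).trans h3
  have hne : m ≠ d := by
    intro h
    apply apply_ne_deg hz1 hχ
    rw [hm, cast_deg, h]
    simp [hd]
  -- `d - m = s a`
  have hs2 : (2 : ℤ) ≤ s := by exact_mod_cast hS1
  have h3 : (d : ℤ) - m = s * (n - m) := by linarith
  have h4 : 0 < (n : ℤ) - m := by
    have : 0 < (d : ℤ) - m := by
      have := lt_of_le_of_ne hle hne
      linarith
    rw [h3] at this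
    exact (mul_pos_iff_of_pos_left (by linarith)).1 this
  obtain ⟨a, ha⟩ := Int.eq_ofNat_of_zero_le h4.le
  refine ⟨a, ?_, ?_, ?_⟩
  · omega
  · have h5 : ((s : ℤ) - 1) * a ≤ d := by
      rw [← ha]
      have : (0 : ℤ) ≤ n := by positivity
      nlinarith
    have h6 : (((s - 1 : ℕ) : ℤ)) = (s : ℤ) - 1 := by
      rw [Nat.cast_sub (by omega)]; simp
    have h7 : (((s - 1) * a : ℕ) : ℤ) ≤ (d : ℤ) := by
      rw [Nat.cast_mul, h6]; exact h5
    exact_mod_cast h7
  · rw [hm]
    congr 1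
    rw [← ha, ← h3]
    ring

omit [Finite G] in
theorem toInt_sq {z : ℂ} {m : ℤ} (h : z = m) : ‖z‖ ^ 2 = ((m ^ 2 : ℤ) : ℝ) := by
  rw [h, Complex.norm_intCast, sq_abs]
  push_cast
  rfl

/-- the values are bounded by the centralizer -/
theorem sq_le {χ : IrrCharacter G} {z : G} {m : ℤ} (h : (χ : G → ℂ) z = m) {c : ℕ}
    (hc : Nat.card (centralizer ({z} : Set G)) ≤ c) : m ^ 2 ≤ c := by
  have h1 := SmallSimple.InvolColumn.sum_sq_le {χ} z (fun _ => m) (by simpa using h)
  rw [Finset.sum_singleton] at h1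
  exact h1.trans (by exact_mod_cast hc)

/-- the characters of degree prime to `p` belong to the block -/
theorem mem_of_deg {p e t : ℕ} {NE X : Finset (IrrCharacter G)} (h : Dat G p e t NE X) (hp : p.Prime) {x : G}
    (hx : orderOf x = p) {χ : IrrCharacter G} (hχ : ¬ p ∣ charDegree (χ : G → ℂ)) : χ ∈ NE ∨ χ ∈ X := by
  by_contra hcon
  push Not at hcon
  obtain ⟨h1, h2⟩ := hcon
  obtain ⟨k, hk⟩ := S0189.card_dvd_degree_of_vanishing (zpowers x) (χ : G → ℂ) (Characters.Core.isIrr_isCharacter χ.2)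
    (by
      intro g hg hg1
      refine h.off χ h1 h2 g ?_
      have h3 : orderOf g ∣ p := by
        rw [← hx, ← Nat.card_zpowers x]
        exact Subgroup.orderOf_dvd_natCard _ hg
      exact ((Nat.dvd_prime hp).1 h3).resolve_left fun h => hg1 (orderOf_eq_one_iff.1 h))
  rw [Nat.card_zpowers, hx, cast_deg] at hk
  exact hχ ⟨k, by exact_mod_cast hk⟩

theorem mem_X_of_deg {p e t : ℕ} {NE X : Finset (IrrCharacter G)} (h : Dat G p e t NE X) (hp : p.Prime) {x : G}
    (hx : orderOf x = p) {χ : IrrCharacter G} (h0 : charDegree (χ : G → ℂ) % p ≠ 0)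
    (h1 : charDegree (χ : G → ℂ) % p ≠ 1) (h2 : charDegree (χ : G → ℂ) % p ≠ p - 1) : χ ∈ X := by
  refine (mem_of_deg h hp hx fun hd => h0 (Nat.mod_eq_zero_of_dvd hd)).resolve_left fun h3 => ?_
  rcases h.ne_deg χ h3 with h4 | h4
  · exact h1 h4
  · exact h2 h4

/-- the common value of the exceptional characters -/
theorem exc_sq_le {p e t : ℕ} {NE X : Finset (IrrCharacter G)} (h : Dat G p e t NE X) {χ : IrrCharacter G}
    (hχ : χ ∈ X) {z : G} (hz : ¬ p ∣ orderOf z) {m : ℤ} (hm : (χ : G → ℂ) z = m) {c : ℕ}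
    (hc : Nat.card (centralizer ({z} : Set G)) ≤ c) : t * m ^ 2 ≤ c := by
  have h1 := SmallSimple.InvolColumn.sum_sq_le X z (fun _ => m) (fun ψ hψ => by rw [h.eq_of ψ hψ χ hχ z hz, hm])
  rw [Finset.sum_const, h.cardX, nsmul_eq_mul] at h1
  exact h1.trans (by exact_mod_cast hc)

end Cfsg.Agent.H174.Ore
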