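import Cfsg.Agent.Fischer.Abstract
import Cfsg.Agent.H690.Spor.RankThree
import Cfsg.Agent.Blocks.ConvCentral
import Cfsg.Agent.Characters.GaloisBasic
import Cfsg.Agent.Characters.Central
import Cfsg.Agent.H65.Ore.Sieve

/-!
# Values of irreducible characters on a rank 3 class of 3-transpositions (helper174)

`R : Rank3 G X` a class of 3-transpositions, `h : R3 G X (¬ Com) k l` (`k` transpositions do not commute with a given one,
`l` other ones commute with it), `χ` irreducible. `RV χ R n a b c` : `χ 1 = n`, `χ (t x) = a`, `χ (t x t y) = b` if `x ≠ y`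
commute, `χ (t x t y) = c` if `x, y` do not commute (integers). Then

* `RV.rel` : `n (n + l b + k c) = |X| a²`;
* `RV.psd` : positivity on the eigenspaces of the graph;
* `RV.dvd_a`, `RV.dvd_b`, `RV.dvd_c` : `n ∣ |X| a`, `n ∣ |X| l / 2 * b`, `n ∣ |X| k / 3 * c`;
* `RV.s1` … `RV.q3` : multiplicities of the linear characters of `S₃` and `2²`.
-/

set_option autoImplicit false
set_option linter.unusedSectionVars false

namespace Cfsg.Agent.H174.Ore.Rk

open Cfsg Cfsg.Agent.Characters Cfsg.Agent.Characters.Core Cfsg.Agent.Fischer.Abstract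
open Cfsg.Agent.H690.Spor.RankThree Cfsg.Agent.H690.Spor.RankThree.R3
open scoped ComplexConjugate

universe u v

/-! ### Idempotents -/

section idem

theorem trace_idem {V : Type*} [AddCommGroup V] [Module ℂ V] [FiniteDimensional ℂ V] {f : Module.End ℂ V}
    (h : f * f = f) : ∃ m : ℕ, LinearMap.trace ℂ V f = m := by
  have h1 : IsIdempotentElem f := h
  exact ⟨_, (LinearMap.IsIdempotentElem.isProj_range f h1).trace⟩

variable {A : Type*} [Ring A] [Algebra ℂ A]

theorem idem_four {P Q : A} (hP : P * P = 1) (hQ : Q * Q = 1) (hc : P * Q = Q * P) :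
    ((4⁻¹ : ℂ) • (1 + P + Q + P * Q)) * ((4⁻¹ : ℂ) • (1 + P + Q + P * Q)) = (4⁻¹ : ℂ) • (1 + P + Q + P * Q) := by
  obtain ⟨s, hs⟩ : ∃ s, s = 1 + P + Q + P * Q := ⟨_, rfl⟩
  have h1 : P * s = s := by
    rw [hs, mul_add, mul_add, mul_add, mul_one, hP, ← mul_assoc, hP, one_mul]
    abel
  have h2 : Q * s = s := by
    rw [hs, mul_add, mul_add, mul_add, mul_one, hQ, ← hc, hc, ← mul_assoc, hQ, one_mul, ← hc]
    abel
  have h3 : s * s = (4 : ℂ) • s := by
    conv_lhs => rw [hs, add_mul, add_mul, add_mul, one_mul, mul_assoc, ← hs, h1, h2, h1]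
    module
  rw [← hs, smul_mul_smul_comm, h3, smul_smul]
  norm_num

theorem idem_six {P Q : A} (hP : P * P = 1) (hQ : Q * Q = 1) (hc : P * Q * P = Q * P * Q) :
    ((6⁻¹ : ℂ) • (1 + P + Q + P * Q * P + P * Q + Q * P)) * ((6⁻¹ : ℂ) • (1 + P + Q + P * Q * P + P * Q + Q * P)) =
      (6⁻¹ : ℂ) • (1 + P + Q + P * Q * P + P * Q + Q * P) := by
  obtain ⟨s, hs⟩ : ∃ s, s = 1 + P + Q + P * Q * P + P * Q + Q * P := ⟨_, rfl⟩
  have h1 : P * s = s := by
    have e1 : P * (P * Q * P) = Q * P := by rw [← mul_assoc, ← mul_assoc, hP, one_mul]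
    have e2 : P * (P * Q) = Q := by rw [← mul_assoc, hP, one_mul]
    have e3 : P * (Q * P) = P * Q * P := by rw [mul_assoc]
    rw [hs, mul_add, mul_add, mul_add, mul_add, mul_add, mul_one, hP, e1, e2, e3]
    abel
  have h2 : Q * s = s := by
    have e1 : Q * (P * Q * P) = P * Q := by rw [hc, ← mul_assoc, ← mul_assoc, hQ, one_mul]
    have e2 : Q * (P * Q) = P * Q * P := by rw [hc, mul_assoc]
    have e3 : Q * (Q * P) = P := by rw [← mul_assoc, hQ, one_mul]
    rw [hs, mul_add, mul_add, mul_add, mul_add, mul_add, mul_one, hQ, e1, e2, e3]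
    abel
  have h3 : s * s = (6 : ℂ) • s := by
    have e : s * s = (1 + P + Q + P * Q * P + P * Q + Q * P) * s := by rw [← hs]
    rw [e]
    simp only [add_mul, one_mul, mul_assoc, h1, h2]
    module
  rw [← hs, smul_mul_smul_comm, h3, smul_smul]
  norm_num

theorem idem_three {P : A} (hP : P * P * P = 1) :
    ((3⁻¹ : ℂ) • ((2 : ℂ) • 1 - P - P * P)) * ((3⁻¹ : ℂ) • ((2 : ℂ) • (1 : A) - P - P * P)) =
      (3⁻¹ : ℂ) • ((2 : ℂ) • (1 : A) - P - P * P) := by
  have h1 : P * P * (P * P) = P := by rw [← mul_assoc, hP, one_mul]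
  have h2 : P * (P * P) = 1 := by rw [← mul_assoc, hP]
  rw [smul_mul_smul_comm]
  have h3 : ((2 : ℂ) • (1 : A) - P - P * P) * ((2 : ℂ) • (1 : A) - P - P * P) = (3 : ℂ) • ((2 : ℂ) • (1 : A) - P - P * P) := by
    simp only [sub_mul, mul_sub, smul_mul_assoc, mul_smul_comm, one_mul, mul_one, h1, h2, hP]
    module
  rw [h3, smul_smul]
  norm_num

end idem

section mult

variable {G : Type u} [Group G]

/-- multiplicities of the linear characters of a four-group -/
theorem mult_four {χ : G → ℂ} (hχ : IsCharacter G χ) {x y : G} (hx : x * x = 1) (hy : y * y = 1)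
    (hc : x * y = y * x) {ε δ : ℂ} (hε : ε * ε = 1) (hδ : δ * δ = 1) :
    ∃ m : ℕ, χ 1 + ε * χ x + δ * χ y + ε * δ * χ (x * y) = 4 * m := by
  obtain ⟨n, ρ, rfl⟩ := hχ
  obtain ⟨m, hm⟩ := trace_idem (idem_four (P := ε • ρ x) (Q := δ • ρ y)
    (by rw [smul_mul_smul_comm, ← map_mul, hε, hx, map_one, one_smul])
    (by rw [smul_mul_smul_comm, ← map_mul, hδ, hy, map_one, one_smul])
    (by rw [smul_mul_smul_comm, smul_mul_smul_comm, ← map_mul, ← map_mul, hc, mul_comm ε]))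
  refine ⟨m, ?_⟩
  rw [map_smul, map_add, map_add, map_add, map_smul, map_smul, smul_mul_smul_comm, ← map_mul, map_smul] at hm
  have h1 : LinearMap.trace ℂ (Fin n → ℂ) (1 : Module.End ℂ (Fin n → ℂ)) = ρ.character 1 := by
    rw [← map_one ρ]; rfl
  rw [h1] at hm
  have h2 : ∀ g, LinearMap.trace ℂ (Fin n → ℂ) (ρ g) = ρ.character g := fun _ => rfl
  rw [h2, h2, h2, smul_eq_mul, smul_eq_mul, smul_eq_mul, smul_eq_mul] at hm
  linear_combination 4 * hm

/-- multiplicities of the linear characters of `S₃` -/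
theorem mult_six {χ : G → ℂ} (hχ : IsCharacter G χ) {x y : G} (hx : x * x = 1) (hy : y * y = 1)
    (hc : x * y * x = y * x * y) {ε : ℂ} (hε : ε * ε = 1) :
    ∃ m : ℕ, χ 1 + ε * χ x + ε * χ y + ε * χ (x * y * x) + χ (x * y) + χ (y * x) = 6 * m := by
  obtain ⟨n, ρ, rfl⟩ := hχ
  obtain ⟨m, hm⟩ := trace_idem (idem_six (P := ε • ρ x) (Q := ε • ρ y)
    (by rw [smul_mul_smul_comm, ← map_mul, hε, hx, map_one, one_smul])
    (by rw [smul_mul_smul_comm, ← map_mul, hε, hy, map_one, one_smul])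
    (by simp only [smul_mul_smul_comm, ← map_mul, hc]))
  refine ⟨m, ?_⟩
  simp only [smul_mul_smul_comm, ← map_mul, hε, map_smul, map_add] at hm
  have h1 : LinearMap.trace ℂ (Fin n → ℂ) (1 : Module.End ℂ (Fin n → ℂ)) = ρ.character 1 := by
    rw [← map_one ρ]; rfl
  rw [h1] at hm
  have h2 : ∀ g, LinearMap.trace ℂ (Fin n → ℂ) (ρ g) = ρ.character g := fun _ => rfl
  simp only [h2, smul_eq_mul, one_mul] at hm
  linear_combination 6 * hm

/-- multiplicities of the characters of a cyclic group of order 3 -/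
theorem mult_three {χ : G → ℂ} (hχ : IsCharacter G χ) {x : G} (hx : x * x * x = 1) :
    ∃ m : ℕ, 2 * χ 1 - χ x - χ (x * x) = 3 * m := by
  obtain ⟨n, ρ, rfl⟩ := hχ
  obtain ⟨m, hm⟩ := trace_idem (idem_three (P := ρ x) (by rw [← map_mul, ← map_mul, hx, map_one]))
  refine ⟨m, ?_⟩
  simp only [← map_mul, map_smul, map_sub] at hm
  have h1 : LinearMap.trace ℂ (Fin n → ℂ) (1 : Module.End ℂ (Fin n → ℂ)) = ρ.character 1 := by
    rw [← map_one ρ]; rfl
  rw [h1] at hm
  have h2 : ∀ g, LinearMap.trace ℂ (Fin n → ℂ) (ρ g) = ρ.character g := fun _ => rfl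
  simp only [h2, smul_eq_mul] at hm
  linear_combination 3 * hm

end mult

/-! ### Positivity -/

section psd

variable {G : Type u} [Group G] [Finite G]

/-- an irreducible character is positive semidefinite -/
theorem psd (χ : IrrCharacter G) {ι : Type*} [Fintype ι] (g : ι → G) (w : ι → ℤ) :
    ∃ r : ℝ, 0 ≤ r ∧ ∑ i, ∑ j, (w i : ℂ) * w j * (χ : G → ℂ) (g i * (g j)⁻¹) = r := by
  classical
  have := Fintype.ofFinite G
  obtain ⟨n, hn0, hn⟩ := isIrr_apply_one χ.2
  have hG : (Nat.card G : ℂ) ≠ 0 := card_ne_zero_complex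
  have hn0' : (n : ℂ) ≠ 0 := by exact_mod_cast hn0.ne'
  -- the vector
  let F : G → ℂ := fun u => ∑ i, (w i : ℂ) * (χ : G → ℂ) (g i * u)
  have h1 : ∑ u, F u * conj (F u) = ((∑ u, ‖F u‖ ^ 2 : ℝ) : ℂ) := by
    push_cast
    refine Finset.sum_congr rfl fun u _ => ?_
    rw [Complex.mul_conj, Complex.normSq_eq_norm_sq]
    push_cast
    rfl
  have h2 : ∀ i j, ∑ u, (χ : G → ℂ) (g i * u) * conj ((χ : G → ℂ) (g j * u)) =
      (Nat.card G : ℂ) * (χ : G → ℂ) (g i * (g j)⁻¹) / n := by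
    intro i j
    rw [← hn, ← Central.sum_char_mul_char_inv_mul χ.2]
    refine Fintype.sum_equiv (Equiv.mulLeft (g i)) _ _ fun u => ?_
    rw [Equiv.coe_mulLeft, ← isCharacter_apply_inv (isIrr_isCharacter χ.2)]
    have e : (g i * u)⁻¹ * (g i * (g j)⁻¹) = u⁻¹ * (g j)⁻¹ := by group
    rw [e, mul_inv_rev]
  have h3 : ∑ u, F u * conj (F u) = (Nat.card G : ℂ) / n *
      ∑ i, ∑ j, (w i : ℂ) * w j * (χ : G → ℂ) (g i * (g j)⁻¹) := by
    have e1 : ∀ u, F u * conj (F u) = ∑ i, ∑ j, (w i : ℂ) * w j *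
        ((χ : G → ℂ) (g i * u) * conj ((χ : G → ℂ) (g j * u))) := by
      intro u
      show (∑ i, _) * conj (∑ j, _) = _
      rw [map_sum, Finset.sum_mul]
      refine Finset.sum_congr rfl fun i _ => ?_
      rw [Finset.mul_sum]
      refine Finset.sum_congr rfl fun j _ => ?_
      rw [map_mul, map_intCast]
      ring
    rw [Finset.sum_congr rfl fun u _ => e1 u, Finset.sum_comm, Finset.mul_sum]
    refine Finset.sum_congr rfl fun i _ => ?_
    rw [Finset.sum_comm, Finset.mul_sum]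
    refine Finset.sum_congr rfl fun j _ => ?_
    rw [← Finset.mul_sum, h2]
    ring
  refine ⟨(n : ℝ) / Nat.card G * ∑ u, ‖F u‖ ^ 2, by positivity, ?_⟩
  push_cast at h1 ⊢
  rw [← h1, h3]
  field_simp

end psd

/-! ### Divisibility -/

section dvd

variable {G : Type u} [Group G] [Finite G]

/-- an integer divided by the degree, if integral -/
theorem dvd_of_isIntegral {n v : ℤ} (hn : n ≠ 0) (h : IsIntegral ℤ ((v : ℂ) / n)) : n ∣ v := by
  obtain ⟨k, hk⟩ := GaloisBasic.exists_int_of_isIntegral h ⟨(v : ℚ) / n, by push_cast; rfl⟩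
  refine ⟨k, ?_⟩
  have hn' : (n : ℂ) ≠ 0 := by exact_mod_cast hn
  have h1 : (v : ℂ) = n * k := by
    rw [← hk]
    field_simp
  exact_mod_cast h1

/-- **Families of elements closed under conjugation.** -/
theorem dvd_family (χ : IrrCharacter G) {ι : Type*} [Finite ι] (φ : ι → G) (m M : ℕ) (hm0 : m ≠ 0)
    (hm : ∀ g, m ∣ Nat.card {i // φ i = g})
    (hc : ∀ g h, Nat.card {i // φ i = h * g * h⁻¹} = Nat.card {i // φ i = g}) {n v : ℤ}
    (hn : (χ : G → ℂ) 1 = n) (hv : ∀ i, (χ : G → ℂ) (φ i) = v) (hN : Nat.card ι = m * M) : n ∣ M * v := by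
  classical
  have := Fintype.ofFinite G
  have := Fintype.ofFinite ι
  have hn0 : n ≠ 0 := by
    rintro rfl
    exact isIrr_apply_one_ne_zero χ.2 (by rw [hn]; simp)
  have hm0' : (m : ℂ) ≠ 0 := by exact_mod_cast hm0
  let f : G → ℤ := fun g => ((Nat.card {i // φ i = g} / m : ℕ) : ℤ)
  have hf : ∀ g, (f g : ℂ) * m = (Nat.card {i // φ i = g} : ℂ) := by
    intro g
    have h1 : (Nat.card {i // φ i = g} / m) * m = Nat.card {i // φ i = g} := Nat.div_mul_cancel (hm g)
    show (((Nat.card {i // φ i = g} / m : ℕ) : ℤ) : ℂ) * m = _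
    rw [Int.cast_natCast]
    exact_mod_cast h1
  have hcf : IsClassFunction G (fun g => (f g : ℂ)) := by
    intro g h
    show ((f (h * g * h⁻¹) : ℤ) : ℂ) = f g
    show (((Nat.card {i // φ i = h * g * h⁻¹} / m : ℕ) : ℤ) : ℂ) = (((Nat.card {i // φ i = g} / m : ℕ) : ℤ) : ℂ)
    rw [hc]
  have h1 := Blocks.ConvCentral.isIntegral_lin_div χ.2 hcf
  have h2 : Blocks.ConvCentral.lin (χ : G → ℂ) (fun g => (f g : ℂ)) * m = Nat.card ι * v := by
    rw [Blocks.ConvCentral.lin_def, Finset.sum_mul]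
    have e1 : ∀ g, (f g : ℂ) * (χ : G → ℂ) g * m = ∑ i with φ i = g, (χ : G → ℂ) (φ i) := by
      intro g
      have e2 : ∀ i ∈ Finset.univ.filter (fun i => φ i = g), (χ : G → ℂ) (φ i) = (χ : G → ℂ) g := by
        intro i hi
        rw [(Finset.mem_filter.1 hi).2]
      rw [Finset.sum_congr rfl e2, Finset.sum_const, nsmul_eq_mul]
      have e3 : (Nat.card {i // φ i = g} : ℂ) = ((Finset.univ.filter (fun i => φ i = g)).card : ℂ) := by
        rw [Nat.card_eq_fintype_card, Fintype.card_subtype]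
      rw [← e3, ← hf]
      ring
    rw [Finset.sum_congr rfl fun g _ => e1 g]
    refine (Finset.sum_fiberwise Finset.univ φ fun i => (χ : G → ℂ) (φ i)).trans ?_
    rw [Finset.sum_congr rfl fun i _ => hv i, Finset.sum_const, Finset.card_univ, ← Nat.card_eq_fintype_card,
      nsmul_eq_mul]
  have h3 : Blocks.ConvCentral.lin (χ : G → ℂ) (fun g => (f g : ℂ)) = ((M * v : ℤ) : ℂ) := by
    rw [hN] at h2
    push_cast at h2 ⊢
    have h4 : (m : ℂ) * Blocks.ConvCentral.lin (χ : G → ℂ) (fun g => (f g : ℂ)) = m * (M * v) := by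
      linear_combination h2
    exact mul_left_cancel₀ hm0' h4
  rw [h3, hn] at h1
  exact dvd_of_isIntegral hn0 h1

/-- a permutation of prime order without fixed points -/
theorem dvd_of_free {p : ℕ} [Fact p.Prime] {T : Type*} [Finite T] (σ : Equiv.Perm T) (h : σ ^ p = 1)
    (hfree : ∀ t, σ t ≠ t) : p ∣ Nat.card T := by
  have := Fintype.ofFinite T
  by_contra hcon
  rw [Nat.card_eq_fintype_card] at hcon
  obtain ⟨t, ht⟩ := Equiv.Perm.exists_fixed_point_of_prime (n := 1) hcon (by rw [pow_one]; exact h)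
  exact hfree t ht

end dvd

/-! ### The values on a rank 3 class of 3-transpositions -/

section rank3

variable {G : Type u} {X : Type v} [Group G] [MulAction G X]

theorem conj_t (R : Rank3 G X) (x : X) : ∃ g : G, g * R.t R.x0 * g⁻¹ = R.t x := by
  obtain ⟨g, hg⟩ := R.trans x
  exact ⟨g, by rw [← hg, R.map_smul]⟩

theorem conj_com (R : Rank3 G X) {x y : X} (h1 : x ≠ y) (h2 : R.Com x y) :
    ∃ g : G, g * (R.t R.x0 * R.t R.c) * g⁻¹ = R.t x * R.t y := by
  obtain ⟨g, hg⟩ := R.trans x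
  have h5 : R.Com R.x0 (g⁻¹ • y) := by
    rw [← R.com_smul g, smul_inv_smul, hg]
    exact h2
  rcases R.com_x0_iff.1 h5 with h6 | ⟨h, h6, h7⟩
  · exact absurd (by rw [← hg, ← h6, smul_inv_smul]) h1
  · have e1 : R.t x = (g * h) * R.t R.x0 * (g * h)⁻¹ := by rw [← R.map_smul, mul_smul, h6, hg]
    have e2 : R.t y = (g * h) * R.t R.c * (g * h)⁻¹ := by rw [← R.map_smul, mul_smul, h7, smul_inv_smul]
    refine ⟨g * h, ?_⟩
    rw [e1, e2]
    group

theorem conj_ncom (R : Rank3 G X) {x y : X} (h2 : ¬ R.Com x y) :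
    ∃ g : G, g * (R.t R.x0 * R.t R.b) * g⁻¹ = R.t x * R.t y := by
  obtain ⟨g, hg⟩ := R.trans x
  have h5 : ¬ R.Com R.x0 (g⁻¹ • y) := by
    rw [← R.com_smul g, smul_inv_smul, hg]
    exact h2
  obtain ⟨h, h6, h7⟩ := R.not_com_x0_iff.1 h5
  have e1 : R.t x = (g * h) * R.t R.x0 * (g * h)⁻¹ := by rw [← R.map_smul, mul_smul, h6, hg]
  have e2 : R.t y = (g * h) * R.t R.b * (g * h)⁻¹ := by rw [← R.map_smul, mul_smul, h7, smul_inv_smul]
  refine ⟨g * h, ?_⟩
  rw [e1, e2]
  group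

theorem smul_comm_t (R : Rank3 G X) {a y : X} (h : ¬ R.Com a y) : R.t a • y = R.t y • a := by
  apply R.t_injective
  rw [R.map_smul, R.map_smul, R.t_inv, R.t_inv]
  exact (R.com_or_braid a y).resolve_left h

theorem not_com_smul (R : Rank3 G X) {a y : X} (h : ¬ R.Com a y) : ¬ R.Com y (R.t y • a) := by
  intro h1
  rw [← R.com_smul (R.t y), smul_smul, R.sq', one_smul, R.t_smul_self] at h1
  exact h (R.com_symm h1)

/-- The values at the transpositions and at the products of two transpositions. -/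
structure RV (χ : IrrCharacter G) (R : Rank3 G X) (n a b c : ℤ) : Prop where
  deg : (charDegree (χ : G → ℂ) : ℤ) = n
  one : (χ : G → ℂ) 1 = n
  pos : 0 < n
  val_d : ∀ x, (χ : G → ℂ) (R.t x) = a
  val_c : ∀ x y, x ≠ y → R.Com x y → (χ : G → ℂ) (R.t x * R.t y) = b
  val_n : ∀ x y, ¬ R.Com x y → (χ : G → ℂ) (R.t x * R.t y) = c

/-- the values are integers -/
theorem exists_rv [Finite G] (χ : IrrCharacter G) (R : Rank3 G X) : ∃ n a b c : ℤ, RV χ R n a b c := by
  have hχ := isIrr_isCharacter χ.2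
  have hcl := isIrr_isClassFunction χ.2
  obtain ⟨n, hn⟩ : ∃ n : ℤ, n = (charDegree (χ : G → ℂ) : ℤ) := ⟨_, rfl⟩
  have hn1 : (χ : G → ℂ) 1 = n := by
    rw [hn, H65.Ore.cast_deg]
    push_cast
    rfl
  have hpos : 0 < n := by
    have h1 : charDegree (χ : G → ℂ) ≠ 0 := by
      intro h
      apply isIrr_apply_one_ne_zero χ.2
      rw [H65.Ore.cast_deg, h]
      simp
    omega
  -- the transposition
  obtain ⟨a, ha⟩ : ∃ a : ℤ, (χ : G → ℂ) (R.t R.x0) = a := by
    obtain ⟨m, hm⟩ := mult_four hχ (R.sq' R.x0) (one_mul (1 : G)) (by rw [mul_one, one_mul]) (ε := 1) (δ := 1)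
      (one_mul 1) (one_mul 1)
    refine ⟨2 * m - n, ?_⟩
    rw [mul_one (R.t R.x0), hn1] at hm
    push_cast
    linear_combination (1 / 2 : ℂ) * hm
  have hd : ∀ x, (χ : G → ℂ) (R.t x) = a := by
    intro x
    obtain ⟨g, hg⟩ := conj_t R x
    rw [← hg, hcl, ha]
  obtain ⟨b, hb⟩ : ∃ b : ℤ, (χ : G → ℂ) (R.t R.x0 * R.t R.c) = b := by
    obtain ⟨m, hm⟩ := mult_four hχ (R.sq' R.x0) (R.sq' R.c) R.com_x0_c (ε := 1) (δ := 1) (one_mul 1) (one_mul 1)
    refine ⟨4 * m - n - 2 * a, ?_⟩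
    rw [hn1, hd, hd] at hm
    push_cast
    linear_combination hm
  obtain ⟨c, hc⟩ : ∃ c : ℤ, (χ : G → ℂ) (R.t R.x0 * R.t R.b) = c := by
    obtain ⟨m, hm⟩ := mult_six hχ (R.sq' R.x0) (R.sq' R.b) R.braid_b (ε := 1) (one_mul 1)
    refine GaloisBasic.exists_int_of_rat hχ _ ⟨(6 * m - n - 3 * a) / 2, ?_⟩
    have e1 : (χ : G → ℂ) (R.t R.x0 * R.t R.b * R.t R.x0) = a := by
      have : R.t R.x0 * R.t R.b * R.t R.x0 = R.t (R.t R.x0 • R.b) := by rw [R.map_smul, R.t_inv]
      rw [this, hd]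
    have e2 : (χ : G → ℂ) (R.t R.b * R.t R.x0) = (χ : G → ℂ) (R.t R.x0 * R.t R.b) := by
      rw [← hcl (R.t R.x0 * R.t R.b) (R.t R.b)]
      group
    rw [hn1, hd, hd, e1, e2] at hm
    push_cast
    linear_combination (1 / 2 : ℂ) * hm
  refine ⟨n, a, b, c, hn.symm, hn1, hpos, hd, fun x y hxy h => ?_, fun x y h => ?_⟩
  · obtain ⟨g, hg⟩ := conj_com R hxy h
    rw [← hg, hcl, hb]
  · obtain ⟨g, hg⟩ := conj_ncom R h
    rw [← hg, hcl, hc]

namespace RV

variable {χ : IrrCharacter G} {R : Rank3 G X} {n a b c : ℤ} {k l : ℕ}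

/-! #### Multiplicities -/

theorem q1 (hv : RV χ R n a b c) : ∃ m : ℕ, n + 2 * a + b = 4 * m := by
  obtain ⟨m, hm⟩ := mult_four (isIrr_isCharacter χ.2) (R.sq' R.x0) (R.sq' R.c) R.com_x0_c (ε := 1) (δ := 1)
    (one_mul 1) (one_mul 1)
  refine ⟨m, ?_⟩
  rw [hv.one, hv.val_d, hv.val_d, hv.val_c _ _ R.c_ne_x0.symm R.com_x0_c] at hm
  have : ((n + 2 * a + b : ℤ) : ℂ) = ((4 * m : ℤ) : ℂ) := by
    push_cast
    linear_combination hm
  exact_mod_cast this

theorem q2 (hv : RV χ R n a b c) : ∃ m : ℕ, n - 2 * a + b = 4 * m := by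
  obtain ⟨m, hm⟩ := mult_four (isIrr_isCharacter χ.2) (R.sq' R.x0) (R.sq' R.c) R.com_x0_c (ε := -1) (δ := -1)
    (by norm_num) (by norm_num)
  refine ⟨m, ?_⟩
  rw [hv.one, hv.val_d, hv.val_d, hv.val_c _ _ R.c_ne_x0.symm R.com_x0_c] at hm
  have : ((n - 2 * a + b : ℤ) : ℂ) = ((4 * m : ℤ) : ℂ) := by
    push_cast
    linear_combination hm
  exact_mod_cast this

theorem q3 (hv : RV χ R n a b c) : ∃ m : ℕ, n - b = 4 * m := by
  obtain ⟨m, hm⟩ := mult_four (isIrr_isCharacter χ.2) (R.sq' R.x0) (R.sq' R.c) R.com_x0_c (ε := 1) (δ := -1)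
    (by norm_num) (by norm_num)
  refine ⟨m, ?_⟩
  rw [hv.one, hv.val_d, hv.val_d, hv.val_c _ _ R.c_ne_x0.symm R.com_x0_c] at hm
  have : ((n - b : ℤ) : ℂ) = ((4 * m : ℤ) : ℂ) := by
    push_cast
    linear_combination hm
  exact_mod_cast this

theorem val_n' (hv : RV χ R n a b c) : (χ : G → ℂ) (R.t R.b * R.t R.x0) = c :=
  hv.val_n _ _ fun h => R.not_com_x0_b (R.com_symm h)

theorem s1 (hv : RV χ R n a b c) : ∃ m : ℕ, n + 3 * a + 2 * c = 6 * m := by
  obtain ⟨m, hm⟩ := mult_six (isIrr_isCharacter χ.2) (R.sq' R.x0) (R.sq' R.b) R.braid_b (ε := 1) (one_mul 1)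
  refine ⟨m, ?_⟩
  have e1 : R.t R.x0 * R.t R.b * R.t R.x0 = R.t (R.t R.x0 • R.b) := by rw [R.map_smul, R.t_inv]
  rw [hv.one, e1, hv.val_d, hv.val_d, hv.val_d, hv.val_n _ _ R.not_com_x0_b, hv.val_n'] at hm
  have : ((n + 3 * a + 2 * c : ℤ) : ℂ) = ((6 * m : ℤ) : ℂ) := by
    push_cast
    linear_combination hm
  exact_mod_cast this

theorem s2 (hv : RV χ R n a b c) : ∃ m : ℕ, n - 3 * a + 2 * c = 6 * m := by
  obtain ⟨m, hm⟩ := mult_six (isIrr_isCharacter χ.2) (R.sq' R.x0) (R.sq' R.b) R.braid_b (ε := -1) (by norm_num)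
  refine ⟨m, ?_⟩
  have e1 : R.t R.x0 * R.t R.b * R.t R.x0 = R.t (R.t R.x0 • R.b) := by rw [R.map_smul, R.t_inv]
  rw [hv.one, e1, hv.val_d, hv.val_d, hv.val_d, hv.val_n _ _ R.not_com_x0_b, hv.val_n'] at hm
  have : ((n - 3 * a + 2 * c : ℤ) : ℂ) = ((6 * m : ℤ) : ℂ) := by
    push_cast
    linear_combination hm
  exact_mod_cast this

theorem s3 (hv : RV χ R n a b c) : ∃ m : ℕ, n - c = 3 * m := by
  have hb := R.braid_b
  have e1 : R.t R.x0 * R.t R.b * (R.t R.x0 * R.t R.b) = R.t R.b * R.t R.x0 := by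
    rw [← mul_assoc, hb, mul_assoc, R.sq', mul_one]
  have e2 : R.t R.x0 * R.t R.b * (R.t R.x0 * R.t R.b) * (R.t R.x0 * R.t R.b) = 1 := by
    rw [e1, mul_assoc, ← mul_assoc (R.t R.x0), R.sq', one_mul, R.sq']
  obtain ⟨m, hm⟩ := mult_three (isIrr_isCharacter χ.2) e2
  rw [e1, hv.one, hv.val_n _ _ R.not_com_x0_b, hv.val_n'] at hm
  have : ((2 * n - 2 * c : ℤ) : ℂ) = ((3 * m : ℤ) : ℂ) := by
    push_cast
    linear_combination hm
  have h : 2 * n - 2 * c = 3 * (m : ℤ) := by exact_mod_cast this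
  exact ⟨m / 2, by omega⟩

/-! #### The relation -/

section count

variable [Fintype X] [DecidableEq X] [DecidableRel fun x y : X => ¬ R.Com x y]

theorem gram (hv : RV χ R n a b c) (x y : X) : (χ : G → ℂ) (R.t x * R.t y) =
    (n - b) * dia x y + (c - b) * adj (fun x y => ¬ R.Com x y) x y + b := by
  unfold dia adj
  by_cases hxy : x = y
  · subst hxy
    rw [R.sq', hv.one, if_pos rfl, if_neg (fun h => h (R.com_self x))]
    ring
  · rw [if_neg hxy]
    by_cases hc : R.Com x y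
    · rw [hv.val_c x y hxy hc, if_neg (not_not_intro hc)]
      ring
    · rw [hv.val_n x y hc, if_pos hc]
      ring

theorem sum_gram (hv : RV χ R n a b c) (h : R3 G X (fun x y => ¬ R.Com x y) k l) (x : X) :
    ∑ y, (χ : G → ℂ) (R.t x * R.t y) = n + l * b + k * c := by
  rw [Finset.sum_congr rfl fun y _ => hv.gram x y, Finset.sum_add_distrib, Finset.sum_add_distrib,
    ← Finset.mul_sum, ← Finset.mul_sum, h.sum_adj, sum_dia, Finset.sum_const, Finset.card_univ,
    ← Nat.card_eq_fintype_card, h.cardn, nsmul_eq_mul]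
  push_cast
  ring

end count

/-- **The relation.** -/
theorem rel [Finite G] (hv : RV χ R n a b c) (h : R3 G X (fun x y => ¬ R.Com x y) k l) :
    n * (n + l * b + k * c) = ((1 + k + l : ℕ) : ℤ) * a ^ 2 := by
  classical
  have hfin : Finite X := Nat.finite_of_card_ne_zero (by rw [h.cardn]; omega)
  have := Fintype.ofFinite X
  obtain ⟨m, ρ, hρ, hχ⟩ := χ.2
  have hval : ∀ g, LinearMap.trace ℂ (Fin m → ℂ) (ρ g) = (χ : G → ℂ) g := fun g => by rw [← hχ]; rfl
  obtain ⟨S, hS⟩ : ∃ S : Module.End ℂ (Fin m → ℂ), S = ∑ x, ρ (R.t x) := ⟨_, rfl⟩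
  have hcomm : ∀ g, S * ρ g = ρ g * S := by
    intro g
    rw [hS, Finset.sum_mul, Finset.mul_sum]
    refine Fintype.sum_equiv (MulAction.toPerm g⁻¹) _ _ fun x => ?_
    rw [MulAction.toPerm_apply, R.map_smul, ← map_mul, ← map_mul]
    congr 1
    group
  have h1 := Central.eq_trace_smul_of_comm ρ hρ S hcomm
  have h2 : LinearMap.trace ℂ (Fin m → ℂ) S = Nat.card X * a := by
    rw [hS, map_sum, Finset.sum_congr rfl fun x _ => (hval _).trans (hv.val_d x), Finset.sum_const,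
      Finset.card_univ, ← Nat.card_eq_fintype_card, nsmul_eq_mul]
  have h3 : ρ.character 1 = n := by rw [← hv.one, hχ]
  have h4 : LinearMap.trace ℂ (Fin m → ℂ) (S * S) = Nat.card X * (n + l * b + k * c) := by
    rw [hS, Finset.sum_mul, map_sum]
    have e : ∀ x, LinearMap.trace ℂ (Fin m → ℂ) (ρ (R.t x) * ∑ y, ρ (R.t y)) = n + l * b + k * c := by
      intro x
      rw [Finset.mul_sum, map_sum, ← hv.sum_gram h x]
      refine Finset.sum_congr rfl fun y _ => ?_
      rw [← map_mul, hval]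
    rw [Finset.sum_congr rfl fun x _ => e x, Finset.sum_const, Finset.card_univ, ← Nat.card_eq_fintype_card,
      nsmul_eq_mul]
  have hn0 : (n : ℂ) ≠ 0 := by exact_mod_cast hv.pos.ne'
  have hX0 : (Nat.card X : ℂ) ≠ 0 := by
    rw [h.cardn]
    exact_mod_cast (by omega : 1 + k + l ≠ 0)
  rw [h2, h3] at h1
  have h5 : LinearMap.trace ℂ (Fin m → ℂ) (S * S) = (Nat.card X * a / n) * (Nat.card X * a) := by
    conv_lhs => rw [h1]
    rw [smul_mul_assoc, one_mul, map_smul, ← h1, h2, smul_eq_mul]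
  rw [h4] at h5
  have h6 : (n : ℂ) * (n + l * b + k * c) = Nat.card X * a ^ 2 := by
    have h7 : (Nat.card X : ℂ) * (n * (n + l * b + k * c)) = Nat.card X * (Nat.card X * a ^ 2) := by
      have h8 : (n : ℂ) * (Nat.card X * (n + l * b + k * c)) = n * ((Nat.card X * a / n) * (Nat.card X * a)) := by rw [h5]
      have h9 : (n : ℂ) * ((Nat.card X * a / n) * (Nat.card X * a)) = Nat.card X * a * (Nat.card X * a) := by
        field_simp
      linear_combination h8 + h9
    exact mul_left_cancel₀ hX0 h7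
  rw [h.cardn] at h6
  have h7 : ((n * (n + l * b + k * c) : ℤ) : ℂ) = ((((1 + k + l : ℕ) : ℤ) * a ^ 2 : ℤ) : ℂ) := by
    push_cast
    push_cast at h6
    linear_combination h6
  exact_mod_cast h7


/-! #### Positivity -/

/-- **Positivity on an eigenspace of the graph.** -/
theorem psd [Finite G] (hv : RV χ R n a b c) (h : R3 G X (fun x y => ¬ R.Com x y) k l) {p q : ℕ}
    (hp : ∀ x y, ¬ R.Com x y → com (fun x y => ¬ R.Com x y) x y = p)
    (hq : ∀ x y, x ≠ y → R.Com x y → com (fun x y => ¬ R.Com x y) x y = q) (α β γ θ : ℤ)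
    (h1 : β * (k - q) = θ * α) (h2 : α + β * (p - q) = θ * β) (h3 : β * q + γ * k = θ * γ)
    (h4 : α + β * k + γ * (1 + k + l) = 0) (h5 : α + γ ≠ 0) : 0 ≤ n - b + (c - b) * θ := by
  classical
  have hfin : Finite X := Nat.finite_of_card_ne_zero (by rw [h.cardn]; omega)
  have := Fintype.ofFinite X
  have hab : ∀ x y, ∑ z, adj (fun x y => ¬ R.Com x y) x z * adj (fun x y => ¬ R.Com x y) z y =
      (k - q : ℂ) * dia x y + (p - q : ℂ) * adj (fun x y => ¬ R.Com x y) x y + q := by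
    intro x y
    rw [sum_mul]
    unfold dia adj
    by_cases hxy : x = y
    · subst hxy
      rw [h.com_self, if_pos rfl, if_neg (fun h => h (R.com_self x))]
      ring
    · rw [if_neg hxy]
      by_cases hc : R.Com x y
      · rw [hq x y hxy hc, if_neg (not_not_intro hc)]
        ring
      · rw [hp x y hc, if_pos hc]
        ring
  let w : X → ℤ := fun y => α * (if R.x0 = y then 1 else 0) + β * (if ¬ R.Com R.x0 y then 1 else 0) + γ
  have hw : ∀ y, (w y : ℂ) = α * dia R.x0 y + β * adj (fun x y => ¬ R.Com x y) R.x0 y + γ := by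
    intro y
    show ((α * (if R.x0 = y then 1 else 0) + β * (if ¬ R.Com R.x0 y then 1 else 0) + γ : ℤ) : ℂ) = _
    unfold dia adj
    push_cast
    rfl
  have hdsymm : ∀ x y : X, dia x y = dia y x := by
    intro x y
    unfold dia
    by_cases hxy : x = y
    · rw [if_pos hxy, if_pos hxy.symm]
    · rw [if_neg hxy, if_neg fun h => hxy h.symm]
  have hS0 : ∑ j, (w j : ℂ) = 0 := by
    rw [Finset.sum_congr rfl fun j _ => hw j, Finset.sum_add_distrib, Finset.sum_add_distrib, ← Finset.mul_sum,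
      ← Finset.mul_sum, h.sum_adj, sum_dia, Finset.sum_const, Finset.card_univ, ← Nat.card_eq_fintype_card,
      h.cardn, nsmul_eq_mul]
    have h4' : ((α + β * k + γ * (1 + k + l) : ℤ) : ℂ) = 0 := by rw [h4]; simp
    push_cast at h4' ⊢
    linear_combination h4'
  have hS1 : ∀ i, ∑ j, dia i j * (w j : ℂ) = w i := by
    intro i
    unfold dia
    simp
  have hS1' : ∀ i, ∑ j, adj (fun x y => ¬ R.Com x y) i j * dia R.x0 j = adj (fun x y => ¬ R.Com x y) i R.x0 := by
    intro i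
    unfold dia
    simp
  have hS2 : ∀ i, ∑ j, adj (fun x y => ¬ R.Com x y) i j * (w j : ℂ) = θ * w i := by
    intro i
    have e1 : ∀ j, adj (fun x y => ¬ R.Com x y) i j * (w j : ℂ) =
        α * (adj (fun x y => ¬ R.Com x y) i j * dia R.x0 j) +
        β * (adj (fun x y => ¬ R.Com x y) i j * adj (fun x y => ¬ R.Com x y) j R.x0) +
        γ * adj (fun x y => ¬ R.Com x y) i j := by
      intro j
      rw [hw, h.adj_symm R.x0 j]
      ring
    rw [Finset.sum_congr rfl fun j _ => e1 j, Finset.sum_add_distrib, Finset.sum_add_distrib, ← Finset.mul_sum,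
      ← Finset.mul_sum, ← Finset.mul_sum, hS1', hab, h.sum_adj, hw, hdsymm i R.x0, h.adj_symm i R.x0]
    have h1' : ((β * (k - q) : ℤ) : ℂ) = ((θ * α : ℤ) : ℂ) := by rw [h1]
    have h2' : ((α + β * (p - q) : ℤ) : ℂ) = ((θ * β : ℤ) : ℂ) := by rw [h2]
    have h3' : ((β * q + γ * k : ℤ) : ℂ) = ((θ * γ : ℤ) : ℂ) := by rw [h3]
    push_cast at h1' h2' h3'
    linear_combination (dia R.x0 i) * h1' + (adj (fun x y => ¬ R.Com x y) R.x0 i) * h2' + h3'
  obtain ⟨r, hr, hsum⟩ := Rk.psd χ R.t w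
  have hW : ∑ i, ∑ j, (w i : ℂ) * w j * (χ : G → ℂ) (R.t i * (R.t j)⁻¹) =
      (((n - b + (c - b) * θ) * ∑ i, w i ^ 2 : ℤ) : ℂ) := by
    push_cast
    rw [Finset.mul_sum]
    refine Finset.sum_congr rfl fun i _ => ?_
    have e1 : ∀ j, (w i : ℂ) * w j * (χ : G → ℂ) (R.t i * (R.t j)⁻¹) =
        w i * ((n - b) * (dia i j * (w j : ℂ)) + (c - b) * (adj (fun x y => ¬ R.Com x y) i j * (w j : ℂ)) +
          b * (w j : ℂ)) := by
      intro j
      rw [R.t_inv, hv.gram]
      ring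
    rw [Finset.sum_congr rfl fun j _ => e1 j, ← Finset.mul_sum, Finset.sum_add_distrib, Finset.sum_add_distrib,
      ← Finset.mul_sum, ← Finset.mul_sum, ← Finset.mul_sum, hS0, hS1, hS2]
    ring
  rw [hW] at hsum
  have h6 : (((n - b + (c - b) * θ) * ∑ i, w i ^ 2 : ℤ) : ℝ) = r := by exact_mod_cast hsum
  have h7 : 0 ≤ (n - b + (c - b) * θ) * ∑ i, w i ^ 2 := by
    have : (0 : ℝ) ≤ (((n - b + (c - b) * θ) * ∑ i, w i ^ 2 : ℤ) : ℝ) := by rw [h6]; exact hr
    exact_mod_cast this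
  have h8 : 0 < ∑ i, w i ^ 2 := by
    refine Finset.sum_pos' (fun i _ => sq_nonneg _) ⟨R.x0, Finset.mem_univ _, ?_⟩
    have : w R.x0 = α + γ := by
      show α * (if R.x0 = R.x0 then 1 else 0) + β * (if ¬ R.Com R.x0 R.x0 then 1 else 0) + γ = _
      rw [if_pos rfl, if_neg (not_not_intro (R.com_self _))]
      ring
    rw [this]
    positivity
  exact nonneg_of_mul_nonneg_left h7 h8

/-! #### Divisibility -/

theorem dvd_a [Finite G] (hv : RV χ R n a b c) (h : R3 G X (fun x y => ¬ R.Com x y) k l) :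
    n ∣ ((1 + k + l : ℕ) : ℤ) * a := by
  have hfin : Finite X := Nat.finite_of_card_ne_zero (by rw [h.cardn]; omega)
  refine dvd_family χ R.t 1 (1 + k + l) one_ne_zero (fun g => one_dvd _) (fun g u => ?_) hv.one hv.val_d
    (by rw [h.cardn, one_mul])
  refine Nat.card_congr ((MulAction.toPerm u⁻¹).subtypeEquiv fun x => ?_)
  rw [MulAction.toPerm_apply, R.map_smul]
  constructor
  · intro e
    rw [e]
    group
  · intro e
    rw [← e]
    group

theorem card_pairs_ncom (h : R3 G X (fun x y => ¬ R.Com x y) k l) :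
    Nat.card {z : X × X // ¬ R.Com z.1 z.2} = (1 + k + l) * k := by
  have hfin : Finite X := Nat.finite_of_card_ne_zero (by rw [h.cardn]; omega)
  have := Fintype.ofFinite X
  rw [Nat.card_congr (Equiv.subtypeProdEquivSigmaSubtype fun x y : X => ¬ R.Com x y), Nat.card_sigma,
    Finset.sum_congr rfl fun x _ => h.cardk x, Finset.sum_const, Finset.card_univ, ← Nat.card_eq_fintype_card,
    h.cardn, smul_eq_mul]

theorem card_com (h : R3 G X (fun x y => ¬ R.Com x y) k l) (x : X) :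
    Nat.card {y // x ≠ y ∧ R.Com x y} = l := by
  classical
  have hfin : Finite X := Nat.finite_of_card_ne_zero (by rw [h.cardn]; omega)
  have := Fintype.ofFinite X
  have h1 := h.cardn
  have h2 := h.cardk x
  rw [Nat.card_eq_fintype_card] at h1
  rw [Nat.card_eq_fintype_card, Fintype.card_subtype] at h2 ⊢
  have h3 := Finset.card_filter_add_card_filter_not (s := (Finset.univ : Finset X)) (fun y => ¬ R.Com x y)
  have h4 : (Finset.univ.filter fun y => ¬ ¬ R.Com x y) = insert x (Finset.univ.filter fun y => x ≠ y ∧ R.Com x y) := by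
    ext y
    simp only [Finset.mem_filter, Finset.mem_univ, true_and, Finset.mem_insert, not_not]
    constructor
    · intro hy
      by_cases hxy : y = x
      · exact Or.inl hxy
      · exact Or.inr ⟨fun h => hxy h.symm, hy⟩
    · rintro (rfl | hy)
      · exact R.com_self _
      · exact hy.2
  rw [h4, Finset.card_insert_of_notMem (by simp), h2, Finset.card_univ, h1] at h3
  omega

theorem card_pairs_com (h : R3 G X (fun x y => ¬ R.Com x y) k l) :
    Nat.card {z : X × X // z.1 ≠ z.2 ∧ R.Com z.1 z.2} = (1 + k + l) * l := by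
  have hfin : Finite X := Nat.finite_of_card_ne_zero (by rw [h.cardn]; omega)
  have := Fintype.ofFinite X
  rw [Nat.card_congr (Equiv.subtypeProdEquivSigmaSubtype fun x y : X => x ≠ y ∧ R.Com x y), Nat.card_sigma,
    Finset.sum_congr rfl fun x _ => card_com h x, Finset.sum_const, Finset.card_univ, ← Nat.card_eq_fintype_card,
    h.cardn, smul_eq_mul]

theorem dvd_b [Finite G] (hv : RV χ R n a b c) (h : R3 G X (fun x y => ¬ R.Com x y) k l) (M : ℕ)
    (hM : (1 + k + l) * l = 2 * M) : n ∣ M * b := by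
  have hfin : Finite X := Nat.finite_of_card_ne_zero (by rw [h.cardn]; omega)
  have : Fact (Nat.Prime 2) := ⟨Nat.prime_two⟩
  refine dvd_family χ (fun z : {z : X × X // z.1 ≠ z.2 ∧ R.Com z.1 z.2} => R.t z.1.1 * R.t z.1.2) 2 M two_ne_zero
    (fun g => ?_) (fun g u => ?_) hv.one (fun z => hv.val_c _ _ z.2.1 z.2.2) ((card_pairs_com h).trans hM)
  · let F : {z : {z : X × X // z.1 ≠ z.2 ∧ R.Com z.1 z.2} // R.t z.1.1 * R.t z.1.2 = g} →
        {z : {z : X × X // z.1 ≠ z.2 ∧ R.Com z.1 z.2} // R.t z.1.1 * R.t z.1.2 = g} :=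
      fun z => ⟨⟨(z.1.1.2, z.1.1.1), z.1.2.1.symm, R.com_symm z.1.2.2⟩, by
        refine Eq.trans ?_ z.2
        exact (z.1.2.2).symm⟩
    have hF : Function.Involutive F := fun z => rfl
    refine dvd_of_free hF.toPerm ?_ fun z hz => ?_
    · ext1 z
      rw [pow_two, Equiv.Perm.mul_apply]
      exact hF z
    · have h1 : z.1.1.2 = z.1.1.1 := congrArg (fun z => z.1.1.1) hz
      exact z.1.2.1 h1.symm
  · refine Nat.card_congr (Equiv.subtypeEquiv (Equiv.subtypeEquiv
      (Equiv.prodCongr (MulAction.toPerm u⁻¹) (MulAction.toPerm u⁻¹)) fun z => ?_) fun z => ?_)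
    · rw [Equiv.prodCongr_apply, Prod.map_fst, Prod.map_snd, MulAction.toPerm_apply, MulAction.toPerm_apply,
        R.com_smul, ne_eq, ne_eq, smul_left_cancel_iff]
    · show _ ↔ R.t (u⁻¹ • z.1.1) * R.t (u⁻¹ • z.1.2) = g
      rw [R.map_smul, R.map_smul]
      constructor
      · intro e
        calc u⁻¹ * R.t z.1.1 * u⁻¹⁻¹ * (u⁻¹ * R.t z.1.2 * u⁻¹⁻¹) = u⁻¹ * (R.t z.1.1 * R.t z.1.2) * u := by group
          _ = g := by rw [e]; group
      · intro e
        rw [← e]
        group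

theorem dvd_c [Finite G] (hv : RV χ R n a b c) (h : R3 G X (fun x y => ¬ R.Com x y) k l) (M : ℕ)
    (hM : (1 + k + l) * k = 3 * M) : n ∣ M * c := by
  have hfin : Finite X := Nat.finite_of_card_ne_zero (by rw [h.cardn]; omega)
  have : Fact (Nat.Prime 3) := ⟨Nat.prime_three⟩
  refine dvd_family χ (fun z : {z : X × X // ¬ R.Com z.1 z.2} => R.t z.1.1 * R.t z.1.2) 3 M three_ne_zero
    (fun g => ?_) (fun g u => ?_) hv.one (fun z => hv.val_n _ _ z.2) ((card_pairs_ncom h).trans hM)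
  · let T := {z : {z : X × X // ¬ R.Com z.1 z.2} // R.t z.1.1 * R.t z.1.2 = g}
    let F : T → T := fun z => ⟨⟨(z.1.1.2, R.t z.1.1.2 • z.1.1.1), not_com_smul R z.1.2⟩, by
        refine Eq.trans ?_ z.2
        show R.t z.1.1.2 * R.t (R.t z.1.1.2 • z.1.1.1) = R.t z.1.1.1 * R.t z.1.1.2
        rw [R.map_smul, R.t_inv, ← mul_assoc, ← mul_assoc, R.sq', one_mul]⟩
    have hF2 : ∀ z : T, (F (F z)).1.1 = (R.t z.1.1.2 • z.1.1.1, z.1.1.1) := by
      intro z
      have h1 : (F (F z)).1.1 = (R.t z.1.1.2 • z.1.1.1, R.t (R.t z.1.1.2 • z.1.1.1) • z.1.1.2) := rfl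
      have h2 : R.t (R.t z.1.1.2 • z.1.1.1) • z.1.1.2 = z.1.1.1 := by
        rw [R.map_smul, R.t_inv, mul_smul, mul_smul, R.t_smul_self, smul_comm_t R z.1.2, smul_smul, R.sq', one_smul]
      rw [h1, h2]
    have hF3 : ∀ z : T, F (F (F z)) = z := by
      intro z
      apply Subtype.ext
      apply Subtype.ext
      rw [hF2 (F z)]
      have h1 : (F z).1.1 = (z.1.1.2, R.t z.1.1.2 • z.1.1.1) := rfl
      rw [h1]
      show (R.t (R.t z.1.1.2 • z.1.1.1) • z.1.1.2, z.1.1.2) = z.1.1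
      have h2 : R.t (R.t z.1.1.2 • z.1.1.1) • z.1.1.2 = z.1.1.1 := by
        rw [R.map_smul, R.t_inv, mul_smul, mul_smul, R.t_smul_self, smul_comm_t R z.1.2, smul_smul, R.sq', one_smul]
      rw [h2]
    let σ : Equiv.Perm T := ⟨F, fun z => F (F z), hF3, hF3⟩
    refine dvd_of_free σ ?_ fun z hz => ?_
    · ext1 z
      rw [pow_succ, pow_two, Equiv.Perm.mul_apply, Equiv.Perm.mul_apply]
      exact hF3 z
    · have h1 : z.1.1.2 = z.1.1.1 := congrArg (fun z => z.1.1.1) (show F z = z from hz)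
      exact z.1.2 (by rw [h1]; exact R.com_self _)
  · refine Nat.card_congr (Equiv.subtypeEquiv (Equiv.subtypeEquiv
      (Equiv.prodCongr (MulAction.toPerm u⁻¹) (MulAction.toPerm u⁻¹)) fun z => ?_) fun z => ?_)
    · rw [Equiv.prodCongr_apply, Prod.map_fst, Prod.map_snd, MulAction.toPerm_apply, MulAction.toPerm_apply,
        R.com_smul]
    · show _ ↔ R.t (u⁻¹ • z.1.1) * R.t (u⁻¹ • z.1.2) = g
      rw [R.map_smul, R.map_smul]
      constructor
      · intro e
        calc u⁻¹ * R.t z.1.1 * u⁻¹⁻¹ * (u⁻¹ * R.t z.1.2 * u⁻¹⁻¹) = u⁻¹ * (R.t z.1.1 * R.t z.1.2) * u := by group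
          _ = g := by rw [e]; group
      · intro e
        rw [← e]
        group

end RV

end rank3

end Cfsg.Agent.H174.Ore.Rk
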